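import Groth.Agent.GrpSGA.FibreCrit
import Groth.Agent.GrpScheme.EtaleEndo
import Mathlib.AlgebraicGeometry.Morphisms.FormallyUnramified

/-!
# Torsion points of invertible order are determined by their reduction
-/

set_option autoImplicit false
universe u

open CategoryTheory CategoryTheory.Limits MonoidalCategory CartesianMonoidalCategory MonObj AlgebraicGeometry
open Groth.Agent.GrpSGA.Fibre Groth.Agent.GrpSGA.LocalProp Groth.Agent.GrpSGA.FibreCrit

namespace Groth.Agent.SGA7Lib

variable {S : Scheme.{u}}

/-- the power map of a group with commutative fibres is étale when the exponent is invertible -/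
theorem etale_pow (G : Over S) [GrpObj G] [Flat G.hom] [LocallyOfFinitePresentation G.hom]
    [QuasiCompact G.hom] [IsSeparated G.hom] (hcomm : ∀ s, IsCommMonObj (fib G s)) (n : ℕ)
    (hn : ∀ s : S, (n : S.residueField s) ≠ 0) : Etale ((𝟙 G : G ⟶ G) ^ n).left := by
  refine of_forall_atPt (P := @Etale) _ fun x => ?_
  let s := G.hom.base x
  obtain ⟨y, hy⟩ : x ∈ Set.range (fibι G s) := by rw [range_fibι]; rfl
  rw [← hy]
  refine fib_etaleAt _ _ ?_
  have hmap : fibMap ((𝟙 G : G ⟶ G) ^ n) s = (𝟙 (fib G s) : fib G s ⟶ fib G s) ^ n := by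
    show (Over.pullback (S.fromSpecResidueField s)).map ((𝟙 G : G ⟶ G) ^ n) = _
    have h := map_pow (Functor.homMonoidHom (X := G) (M := G) (Over.pullback (S.fromSpecResidueField s))) (𝟙 G) n
    refine h.trans ?_
    congr 1
    exact (Over.pullback _).map_id G
  rw [hmap]
  have := hcomm s
  haveI : LocallyOfFiniteType (fib G s).hom :=
    MorphismProperty.pullback_snd (P := @LocallyOfFiniteType) G.hom _ inferInstance
  haveI : QuasiCompact (fib G s).hom :=
    MorphismProperty.pullback_snd (P := @QuasiCompact) G.hom _ inferInstance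
  haveI : IsSeparated (fib G s).hom :=
    MorphismProperty.pullback_snd (P := @IsSeparated) G.hom _ inferInstance
  have h := GrpScheme.EtaleEndo.etale_zpow (fib G s) (n : ℤ) (by exact_mod_cast hn s)
  rw [zpow_natCast] at h
  exact ⟨⊤, trivial, inferInstance⟩

/-- two points over a local ring which agree at the closed point and after an unramified morphism agree -/
theorem eq_of_unramified {W : Type u} [CommRing W] [IsLocalRing W] {U V : Scheme.{u}} (f : U ⟶ V)
    [FormallyUnramified f] [LocallyOfFiniteType f] (a b : Spec (CommRingCat.of W) ⟶ U)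
    (w : a ≫ f = b ≫ f)
    (h : Spec.map (CommRingCat.ofHom (IsLocalRing.residue W)) ≫ a =
      Spec.map (CommRingCat.ofHom (IsLocalRing.residue W)) ≫ b) : a = b := by
  let r := Spec.map (CommRingCat.ofHom (IsLocalRing.residue W))
  let m : Spec (CommRingCat.of W) ⟶ pullback f f := pullback.lift a b w
  have hr : Set.range m.base ⊆ Set.range (pullback.diagonal f).base := by
    rintro _ ⟨x, rfl⟩
    refine ((IsLocalRing.specializes_closedPoint x).map m.continuous).mem_open
      (pullback.diagonal f).opensRange.isOpen ?_
    obtain ⟨p⟩ : Nonempty (Spec (CommRingCat.of (IsLocalRing.ResidueField W))) := inferInstance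
    have hp : r.base p = IsLocalRing.closedPoint W := by
      rw [Subsingleton.elim p (IsLocalRing.closedPoint _)]
      exact IsLocalRing.comap_closedPoint (IsLocalRing.residue W)
    have hm : r ≫ m = (r ≫ a) ≫ pullback.diagonal f := by
      apply pullback.hom_ext
      · rw [Category.assoc, pullback.lift_fst, Category.assoc, pullback.diagonal_fst, Category.comp_id]
      · rw [Category.assoc, pullback.lift_snd, Category.assoc, pullback.diagonal_snd, Category.comp_id]
        exact h.symm
    refine ⟨(r ≫ a).base p, ?_⟩
    rw [← Scheme.Hom.comp_apply, ← hm, Scheme.Hom.comp_apply, hp]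
  have e := IsOpenImmersion.lift_fac (pullback.diagonal f) m hr
  have e1 := congrArg (· ≫ pullback.fst f f) e
  have e2 := congrArg (· ≫ pullback.snd f f) e
  simp only [Category.assoc, m, pullback.diagonal_fst, pullback.diagonal_snd, pullback.lift_fst,
    pullback.lift_snd, Category.comp_id] at e1 e2
  exact e1.symm.trans e2

end Groth.Agent.SGA7Lib
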