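import Groth.Prelude.Def_SGA7IX
import Groth.Agent.WEtale.Olivier
import Mathlib.FieldTheory.KrullTopology
import Mathlib.FieldTheory.Galois.Profinite
import Mathlib.FieldTheory.Galois.Infinite
import Mathlib.FieldTheory.IsSepClosed
import Mathlib.RingTheory.Invariant.Profinite
import Mathlib.RingTheory.DedekindDomain.IntegralClosure
import Mathlib.RingTheory.Valuation.ValuationRing
import Mathlib.RingTheory.DiscreteValuationRing.TFAE

/-!
# Inertia over henselian discrete valuation rings

The valuation ring over a henselian discrete valuation ring is the integral closure, and inertia of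
the separable closure surjects onto inertia of finite Galois layers.
-/

set_option autoImplicit false
set_option linter.style.haveILetI false
universe u

namespace Groth.Agent.SGA7Lib.InertiaExt

variable {R K Ω : Type u} [CommRing R] [IsDomain R] [IsDiscreteValuationRing R] [HenselianLocalRing R]
  [Field K] [Algebra R K] [IsFractionRing R K] [Field Ω] [Algebra K Ω] [Algebra R Ω]
  [IsScalarTower R K Ω] (W : ValuationSubring Ω) (hW : SGA7.LiesOver K R W)

include hW in
theorem mem_of_isIntegral {y : Ω} (hy : IsIntegral R y) : y ∈ W := by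
  let ρ : R →+* W := (algebraMap R Ω).codRestrict W.toSubring fun r => by
    rw [IsScalarTower.algebraMap_apply R K Ω]; exact hW.1 r
  letI : Algebra R W := ρ.toAlgebra
  haveI : IsScalarTower R W Ω := IsScalarTower.of_algebraMap_eq fun _ => rfl
  obtain ⟨z, hz⟩ := IsIntegrallyClosed.isIntegral_iff.1 (hy.tower_top (A := W))
  rw [← hz]
  exact z.2

include hW in
/-- a prime of an integral algebra inside the valuation ring: the elements of valuation less than one
form the maximal ideal -/
theorem valuation_lt_one_iff {C : Type u} [CommRing C] [IsDomain C] [Algebra R C] [Algebra.IsIntegral R C]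
    [IsLocalRing C] (φ : C →ₐ[R] Ω) (c : C) :
    W.valuation (φ c) < 1 ↔ c ∈ IsLocalRing.maximalIdeal C := by
  let ψ : C →+* W := φ.toRingHom.codRestrict W.toSubring fun c =>
    mem_of_isIntegral W hW ((Algebra.IsIntegral.isIntegral (R := R) c).map φ)
  let P : Ideal C := (IsLocalRing.maximalIdeal W).comap ψ
  have hP : P.comap (algebraMap R C) = IsLocalRing.maximalIdeal R := by
    refine ((IsLocalRing.maximalIdeal.isMaximal R).eq_of_le ?_ fun r hr => ?_).symm
    · exact Ideal.IsPrime.ne_top inferInstance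
    · refine Ideal.mem_comap.2 ((W.valuation_lt_one_iff _).2 ?_)
      show W.valuation (φ (algebraMap R C r)) < 1
      rw [AlgHom.commutes, IsScalarTower.algebraMap_apply R K Ω]
      exact hW.2 r hr
  have hmax : P = IsLocalRing.maximalIdeal C := IsLocalRing.eq_maximalIdeal
    (Ideal.isMaximal_of_isIntegral_of_isMaximal_comap (R := R) P (hP ▸ IsLocalRing.maximalIdeal.isMaximal R))
  rw [← hmax]
  exact (W.valuation_lt_one_iff (ψ c)).symm

variable [IsSepClosure K Ω]

include hW in
theorem isIntegral_of_mem {x : Ω} (hx : x ∈ W) : IsIntegral R x := by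
  haveI := IsSepClosure.separable (k := K) (K := Ω)
  let F := IntermediateField.adjoin K {x}
  haveI : FiniteDimensional K F :=
    IntermediateField.adjoin.finiteDimensional (Algebra.IsSeparable.isIntegral K x)
  haveI : Algebra.IsSeparable K F := Algebra.isSeparable_tower_bot_of_isSeparable K F Ω
  haveI : IsScalarTower R F Ω := IsScalarTower.of_algebraMap_eq fun r => by
    rw [IsScalarTower.algebraMap_apply R K Ω, IsScalarTower.algebraMap_apply R K F]; rfl
  let C := integralClosure R F
  haveI : IsLocalRing C := Groth.Agent.WEtale.Olivier.isLocalRing_of_integral (A := R)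
  haveI : IsDedekindDomain C := integralClosure.isDedekindDomain R K F
  haveI : IsFractionRing C F := IsIntegralClosure.isFractionRing_of_finite_extension R K F C
  haveI : IsPrincipalIdealRing C := inferInstance
  haveI : ValuationRing C := inferInstance
  rcases eq_or_ne x 0 with rfl | hx0
  · exact isIntegral_zero
  let xF : F := ⟨x, IntermediateField.mem_adjoin_simple_self K x⟩
  rcases ValuationRing.isInteger_or_isInteger C xF with ⟨c, hc⟩ | ⟨c, hc⟩
  · rw [show x = algebraMap F Ω xF from rfl, ← hc]
    exact (c.2.map (IsScalarTower.toAlgHom R F Ω))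
  · by_cases hu : IsUnit c
    · obtain ⟨u, rfl⟩ := hu
      have : ((↑u⁻¹ : C) : F) = xF := by
        have h1 : ((↑u⁻¹ : C) : F) * ((u : C) : F) = 1 := by
          rw [← Subalgebra.coe_mul, Units.inv_mul]; rfl
        have h2 : ((u : C) : F) = xF⁻¹ := hc
        rw [h2] at h1
        exact (mul_inv_eq_one₀ (fun h0 => by rw [h0, inv_zero, mul_zero] at h1; exact zero_ne_one h1)).1 h1
      rw [show x = algebraMap F Ω xF from rfl, ← this]
      exact ((↑u⁻¹ : C).2.map (IsScalarTower.toAlgHom R F Ω))
    · exfalso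
      have h1 : W.valuation ((IsScalarTower.toAlgHom R F Ω).comp C.val c) < 1 :=
        (valuation_lt_one_iff W hW _ c).2 hu
      have h2 : ((IsScalarTower.toAlgHom R F Ω).comp C.val c) = x⁻¹ := by
        show algebraMap F Ω (c : F) = _
        rw [show (c : F) = xF⁻¹ from hc, map_inv₀]; rfl
      rw [h2, map_inv₀] at h1
      have hle := (W.valuation_le_one_iff x).2 hx
      have hpos : (0 : W.ValueGroup) < W.valuation x :=
        zero_lt_iff.2 ((Valuation.ne_zero_iff _).2 hx0)
      exact absurd (mul_lt_mul_of_pos_right h1 hpos |>.trans_le (le_of_eq (one_mul _)))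
          (by rw [inv_mul_cancel₀ hpos.ne']; exact not_lt.2 hle)

include hW in
/-- an automorphism of a finite Galois layer acting trivially on its residue field extends to an
element of the inertia group -/
theorem exists_isInertia_extension (M : IntermediateField K Ω) [FiniteDimensional K M] [IsGalois K M]
    (σ : M ≃ₐ[K] M)
    (hσ : ∀ y : M, IsIntegral R (y : Ω) → W.valuation ((σ y : Ω) - (y : Ω)) < 1) :
    ∃ τ : Ω ≃ₐ[K] Ω, SGA7.IsInertia W τ ∧ ∀ y : M, τ y = σ y := by
  haveI : IsGalois K Ω :=
    { to_isSeparable := IsSepClosure.separable, to_normal := inferInstance }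
  haveI : IsGalois M Ω := IsGalois.tower_top_intermediateField M
  haveI : IsScalarTower R M Ω := IsScalarTower.of_algebraMap_eq fun r => by
    rw [IsScalarTower.algebraMap_apply R K Ω, IsScalarTower.algebraMap_apply R K M]; rfl
  haveI : SMulCommClass Gal(Ω/M) R Ω := ⟨fun g r x => by
    show g (r • x) = r • g x
    rw [← algebraMap_smul M r x, ← algebraMap_smul M r (g x), map_smul]⟩
  let A := integralClosure R M
  let B := integralClosure R Ω
  letI : Algebra A B := ((IsScalarTower.toAlgHom R M Ω).mapIntegralClosure).toRingHom.toAlgebra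
  haveI : IsScalarTower R A B := IsScalarTower.of_algebraMap_eq fun r =>
    (((IsScalarTower.toAlgHom R M Ω).mapIntegralClosure).commutes r).symm
  haveI : IsLocalRing A := Groth.Agent.WEtale.Olivier.isLocalRing_of_integral (A := R)
  haveI : IsLocalRing B := Groth.Agent.WEtale.Olivier.isLocalRing_of_integral (A := R)
  haveI : SMulCommClass Gal(Ω/M) A B := ⟨fun g a b => by
    refine Subtype.ext ?_
    show g ((algebraMap M Ω (a : M)) * (b : Ω)) = algebraMap M Ω (a : M) * g (b : Ω)
    rw [map_mul, AlgEquiv.commutes]⟩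
  haveI : Algebra.IsInvariant A B Gal(Ω/M) := ⟨fun b hb => by
    obtain ⟨y, hy⟩ : (b : Ω) ∈ Set.range (algebraMap M Ω) :=
      (InfiniteGalois.mem_range_algebraMap_iff_fixed _).2 fun g => congrArg Subtype.val (hb g)
    refine ⟨⟨y, ?_⟩, Subtype.ext hy⟩
    exact (isIntegral_algHom_iff (IsScalarTower.toAlgHom R M Ω) (algebraMap M Ω).injective).1
      (by rw [IsScalarTower.coe_toAlgHom', hy]; exact b.2)⟩
  letI : TopologicalSpace B := ⊥
  haveI : DiscreteTopology B := ⟨rfl⟩
  haveI : ContinuousSMul Gal(Ω/M) B := by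
    refine continuousSMul_iff_stabilizer_isOpen.2 fun b => ?_
    have h : (MulAction.stabilizer Gal(Ω/M) b : Set Gal(Ω/M)) = MulAction.stabilizer Gal(Ω/M) (b : Ω) := by
      ext g
      exact ⟨fun e => congrArg Subtype.val e, fun e => Subtype.ext e⟩
    rw [h]
    exact stabilizer_isOpen_of_isIntegral (b : Ω)
  haveI : Algebra.IsIntegral A B := Algebra.IsInvariant.isIntegral_of_profinite (G := Gal(Ω/M))
  let Q := IsLocalRing.maximalIdeal B
  let P := IsLocalRing.maximalIdeal A
  haveI : Q.LiesOver P := ⟨(IsLocalRing.eq_maximalIdeal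
    (Ideal.isMaximal_comap_of_isIntegral_of_isMaximal (R := A) Q)).symm⟩
  -- a lift
  let σ' : Ω ≃ₐ[K] Ω := σ.liftNormal Ω
  have hσ' : ∀ y : M, σ' (y : Ω) = σ y := fun y => σ.liftNormal_commutes Ω y
  let σB : B ≃ₐ[R] B := (σ'.restrictScalars R).mapIntegralClosure
  have hσA : ∀ a : A, σB (algebraMap A B a) - algebraMap A B a ∈ Q := fun a => by
    refine (valuation_lt_one_iff W hW B.val _).1 ?_
    show W.valuation (σ' ((a : M) : Ω) - ((a : M) : Ω)) < 1
    rw [hσ']
    exact hσ _ (a.2.map (IsScalarTower.toAlgHom R M Ω))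
  let f₀ : (B ⧸ Q) ≃+* B ⧸ Q := Ideal.quotientEquiv Q Q σB.toRingEquiv (by
    refine (IsLocalRing.eq_maximalIdeal ?_).symm
    exact Ideal.map_isMaximal_of_equiv σB.toRingEquiv)
  let f : (B ⧸ Q) ≃ₐ[A ⧸ P] B ⧸ Q := AlgEquiv.ofRingEquiv (f := f₀) fun x => by
    obtain ⟨a, rfl⟩ := Ideal.Quotient.mk_surjective x
    exact (Ideal.Quotient.mk_eq_mk_iff_sub_mem _ _).2 (hσA a)
  obtain ⟨⟨g, hg⟩, hgf⟩ := Ideal.Quotient.stabilizerHom_surjective_of_profinite (G := Gal(Ω/M)) P Q f
  refine ⟨σ' * (g⁻¹).restrictScalars K, fun x hx => ?_, fun y => ?_⟩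
  · let b : B := ⟨x, isIntegral_of_mem W hW hx⟩
    let c : B := g⁻¹ • b
    have hc : ((σ' * (g⁻¹).restrictScalars K) x : Ω) = (σB c : Ω) := rfl
    have hQ : σB c - b ∈ Q := by
      refine (Ideal.Quotient.mk_eq_mk_iff_sub_mem _ _).1 ?_
      have h1 : f (Ideal.Quotient.mk Q c) = Ideal.Quotient.mk Q (g • c) :=
        (AlgEquiv.congr_fun hgf _).symm.trans rfl
      rw [show g • c = b from smul_inv_smul g b] at h1
      exact h1
    rw [hc]
    exact ⟨mem_of_isIntegral W hW (σB c).2, (valuation_lt_one_iff W hW B.val _).2 hQ⟩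
  · show σ' (g⁻¹ (algebraMap M Ω y)) = _
    rw [AlgEquiv.commutes]
    exact hσ' y

end Groth.Agent.SGA7Lib.InertiaExt
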